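import Cfsg.Agent.OrdDiv.Main
import Mathlib

/-!
# Recognition of `A_n` and `S_n` by spectrum: definitions (helper367)

* `sg N` : sum of the prime powers exactly dividing `N`;
* `In b n N` : `N` is an element order of `A_n` (`b = 2`) or of `S_n` (`b = 0`);
* `Spec b n G` : `G` has the spectrum of `A_n` (`b = 2`) or of `S_n` (`b = 0`);
* `Coc n C` : `C` is a set of primes `≤ n` with pairwise sums `> n`;
* `Cand n S` : what is known about the simple section `S`;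
* `Dat n N S` : the structure `1 ≤ N ≤ M ≤ G`, `S = M / N` simple.
-/

set_option autoImplicit false

namespace Cfsg.Agent.H367.Rec

open Cfsg.Agent.OrdDiv

/-- sum of the maximal prime powers dividing `N` -/
def sg (N : ℕ) : ℕ := ∑ p ∈ N.primeFactors, p ^ N.factorization p

/-- element orders of `A_n` (`b = 2`) or of `S_n` (`b = 0`) -/
def In (b n N : ℕ) : Prop := N ≠ 0 ∧ sg N ≤ n ∧ (Even N → sg N + b ≤ n)

/-- the spectrum of `A_n` (`b = 2`) or of `S_n` (`b = 0`) -/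
def Spec (b n : ℕ) (G : Type*) [Group G] : Prop := ∀ N : ℕ, (∃ g : G, orderOf g = N) ↔ In b n N

/-- a coclique of the prime graph: primes `≤ n` with pairwise sums `> n` -/
structure Coc (n : ℕ) (C : Finset ℕ) : Prop where
  prime : ∀ p ∈ C, p.Prime
  le : ∀ p ∈ C, p ≤ n
  sum : ∀ p ∈ C, ∀ q ∈ C, p ≠ q → n < p + q

/-- what is known about the simple section -/
structure Cand (n : ℕ) (S : Type*) [Group S] : Prop where
  sub : ∀ x : S, sg (orderOf x) ≤ n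
  coc : ∀ C : Finset ℕ, Coc n C → 3 ≤ C.card → ∀ r ∈ C, ∀ s ∈ C,
    ¬ r ∣ Nat.card S → ¬ s ∣ Nat.card S → r = s

/-- the simple section of `G` -/
structure Dat {G : Type*} [Group G] (n : ℕ) (N : Subgroup G) [N.Normal] (S : Subgroup (G ⧸ N)) : Prop where
  normal : S.Normal
  simple : IsSimpleGroup ↥S
  nonab : ¬ IsMulCommutative ↥S
  cent : Subgroup.centralizer (S : Set (G ⧸ N)) = ⊥
  coc : ∀ C : Finset ℕ, Coc n C → 3 ≤ C.card → ∀ r ∈ C, ∀ s ∈ C,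
    r ∣ Nat.card ↥N * S.index → s ∣ Nat.card ↥N * S.index → r = s

/-- the names of simple groups which survive `Cand n S`, `13 ≤ n` -/
def Surv (n : ℕ) : Grp → Prop
  | .alt _ => True
  | .psl d q => n ≤ 16 ∧ d = 2 ∧ (q = 13 ∨ q = 27)
  | .psp m q => (n ≤ 16 ∧ m = 3 ∧ q = 3) ∨ (n = 18 ∧ m = 3 ∧ q = 4)
  | .psu d q => n ≤ 16 ∧ d = 6 ∧ q = 2
  | .oodd m q => n ≤ 16 ∧ m = 3 ∧ q = 3
  | .oplus m q => n ≤ 16 ∧ m = 4 ∧ q = 3
  | .ominus m q => 17 ≤ n ∧ n ≤ 18 ∧ m = 5 ∧ q = 2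
  | .g2 q => n ≤ 16 ∧ (q = 3 ∨ q = 4)
  | .f4 q => 17 ≤ n ∧ n ≤ 18 ∧ q = 2
  | .te6 q => 19 ≤ n ∧ n ≤ 28 ∧ q = 2
  | .td4 q => n ≤ 16 ∧ q = 2
  | .sz q => n ≤ 16 ∧ q = 8
  | .m22 => n ≤ 16
  | .hs => n ≤ 16
  | .mcl => n ≤ 16
  | .suz => n ≤ 18
  | .fi22 => n ≤ 18
  | .fi23 => 23 ≤ n ∧ n ≤ 28
  | .fi24 => 29 ≤ n ∧ n ≤ 30
  | _ => False

end Cfsg.Agent.H367.Rec
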