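import Cfsg.Agent.H367.Rec.Defs
import Mathlib

/-!
# Element orders of `S_n` and `A_n` (helper367)

`sym_iff`, `alt_iff` : the element orders of `S_n` and `A_n` are described by `In 0 n` and `In 2 n`.
-/

set_option autoImplicit false

namespace Cfsg.Agent.H367.Rec

open Equiv Finset

theorem sg_zero : sg 0 = 0 := by simp [sg]

theorem sg_one : sg 1 = 0 := by simp [sg]

theorem sg_mul {a b : ℕ} (h : Nat.Coprime a b) : sg (a * b) = sg a + sg b := by
  rcases Nat.eq_zero_or_pos a with rfl | ha
  · have : b = 1 := by simpa using h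
    subst this
    simp [sg]
  rcases Nat.eq_zero_or_pos b with rfl | hb
  · have : a = 1 := by simpa using h
    subst this
    simp [sg]
  unfold sg
  rw [h.primeFactors_mul, sum_union h.disjoint_primeFactors]
  congr 1
  · refine sum_congr rfl fun p hp => ?_
    rw [Nat.factorization_mul ha.ne' hb.ne', Finsupp.add_apply]
    have h1 : b.factorization p = 0 := by
      apply Nat.factorization_eq_zero_of_not_dvd
      intro hd
      have h2 := Nat.dvd_gcd (Nat.dvd_of_mem_primeFactors hp) hd
      rw [Nat.Coprime.gcd_eq_one h] at h2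
      exact (Nat.prime_of_mem_primeFactors hp).one_lt.ne' (Nat.dvd_one.1 h2)
    rw [h1, add_zero]
  · refine sum_congr rfl fun p hp => ?_
    rw [Nat.factorization_mul ha.ne' hb.ne', Finsupp.add_apply]
    have h1 : a.factorization p = 0 := by
      apply Nat.factorization_eq_zero_of_not_dvd
      intro hd
      have h2 := Nat.dvd_gcd hd (Nat.dvd_of_mem_primeFactors hp)
      rw [Nat.Coprime.gcd_eq_one h] at h2
      exact (Nat.prime_of_mem_primeFactors hp).one_lt.ne' (Nat.dvd_one.1 h2)
    rw [h1, zero_add]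

theorem sg_prime_pow {p k : ℕ} (hp : p.Prime) (hk : k ≠ 0) : sg (p ^ k) = p ^ k := by
  unfold sg
  rw [Nat.primeFactors_prime_pow hk hp, sum_singleton, hp.factorization_pow, Finsupp.single_eq_same]

theorem sg_prime {p : ℕ} (hp : p.Prime) : sg p = p := by
  have := sg_prime_pow hp one_ne_zero
  rwa [pow_one] at this

theorem sg_le_of_dvd {a b : ℕ} (hb : b ≠ 0) (h : a ∣ b) : sg a ≤ sg b := by
  unfold sg
  have ha : a ≠ 0 := ne_zero_of_dvd_ne_zero hb h
  calc ∑ p ∈ a.primeFactors, p ^ a.factorization p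
      ≤ ∑ p ∈ a.primeFactors, p ^ b.factorization p := by
        refine sum_le_sum fun p hp => ?_
        exact Nat.pow_le_pow_right (Nat.prime_of_mem_primeFactors hp).pos
          ((Nat.factorization_le_iff_dvd ha hb).2 h p)
    _ ≤ ∑ p ∈ b.primeFactors, p ^ b.factorization p :=
        sum_le_sum_of_subset (Nat.primeFactors_mono h hb)

theorem cube_le (x : ℕ) : x ^ 3 ≤ 3 ^ x := by
  rcases lt_or_ge x 3 with h | h
  · interval_cases x <;> norm_num
  · induction x, h using Nat.le_induction with
    | base => norm_num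
    | succ x hx ih =>
      have h1 : (x + 1) ^ 3 ≤ 3 * x ^ 3 := by nlinarith [sq_nonneg x, mul_pos (show 0 < x by omega) (show 0 < x by omega)]
      calc (x + 1) ^ 3 ≤ 3 * x ^ 3 := h1
        _ ≤ 3 * 3 ^ x := by omega
        _ = 3 ^ (x + 1) := by ring

theorem pow_three_le {N : ℕ} (hN : N ≠ 0) : N ^ 3 ≤ 3 ^ sg N := by
  conv_lhs => rw [← Nat.prod_factorization_pow_eq_self hN]
  unfold sg
  rw [Finsupp.prod, Nat.support_factorization, ← prod_pow, ← prod_pow_eq_pow_sum]
  exact prod_le_prod' fun p _ => cube_le _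

theorem sg_le_self (N : ℕ) : sg N ≤ N := by
  induction N using Nat.recOnPosPrimePosCoprime with
  | prime_pow p n hp hn => rw [sg_prime_pow hp hn.ne']
  | zero => simp [sg]
  | one => simp [sg]
  | coprime a b ha hb hab iha ihb =>
    rw [sg_mul hab]
    nlinarith

theorem sg_lcm_le {a b : ℕ} (ha : a ≠ 0) (hb : b ≠ 0) : sg (Nat.lcm a b) ≤ sg a + sg b := by
  have hl : Nat.lcm a b ≠ 0 := Nat.lcm_ne_zero ha hb
  unfold sg
  have hpf : (Nat.lcm a b).primeFactors = a.primeFactors ∪ b.primeFactors := by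
    ext p
    simp only [Nat.mem_primeFactors, mem_union]
    constructor
    · rintro ⟨hp, hd, -⟩
      rcases (Nat.Prime.dvd_lcm hp).1 hd with h | h
      · exact Or.inl ⟨hp, h, ha⟩
      · exact Or.inr ⟨hp, h, hb⟩
    · rintro (⟨hp, hd, -⟩ | ⟨hp, hd, -⟩)
      · exact ⟨hp, hd.trans (Nat.dvd_lcm_left a b), hl⟩
      · exact ⟨hp, hd.trans (Nat.dvd_lcm_right a b), hl⟩
  have h1 : ∀ p ∈ (Nat.lcm a b).primeFactors, p ^ (Nat.lcm a b).factorization p ≤
      (if p ∈ a.primeFactors then p ^ a.factorization p else 0) +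
      (if p ∈ b.primeFactors then p ^ b.factorization p else 0) := by
    intro p hp
    have hpp := Nat.prime_of_mem_primeFactors hp
    rw [Nat.factorization_lcm ha hb, Finsupp.sup_apply]
    rcases le_total (a.factorization p) (b.factorization p) with h | h
    · rw [sup_eq_right.2 h]
      have hpb : p ∈ b.primeFactors := by
        by_contra hcon
        have h2 : b.factorization p = 0 := by rwa [← Finsupp.notMem_support_iff, Nat.support_factorization]
        have h3 : a.factorization p = 0 := by omega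
        rw [hpf, mem_union] at hp
        rcases hp with hp | hp
        · rw [← Nat.support_factorization, Finsupp.mem_support_iff] at hp
          exact hp h3
        · exact hcon hp
      rw [if_pos hpb]
      omega
    · rw [sup_eq_left.2 h]
      have hpa : p ∈ a.primeFactors := by
        by_contra hcon
        have h2 : a.factorization p = 0 := by rwa [← Finsupp.notMem_support_iff, Nat.support_factorization]
        have h3 : b.factorization p = 0 := by omega
        rw [hpf, mem_union] at hp
        rcases hp with hp | hp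
        · exact hcon hp
        · rw [← Nat.support_factorization, Finsupp.mem_support_iff] at hp
          exact hp h3
      rw [if_pos hpa]
      omega
  refine (sum_le_sum h1).trans ?_
  rw [sum_add_distrib, hpf]
  apply le_of_eq
  congr 1
  · rw [← sum_filter]
    congr 1
    ext p
    simp only [mem_filter, mem_union]
    tauto
  · rw [← sum_filter]
    congr 1
    ext p
    simp only [mem_filter, mem_union]
    tauto

theorem sg_lcm_le_sum : ∀ (m : Multiset ℕ), (∀ a ∈ m, 0 < a) → sg m.lcm ≤ m.sum := by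
  intro m
  induction m using Multiset.induction_on with
  | empty => intro _; simp [sg]
  | cons a m ih =>
    intro h
    rw [Multiset.lcm_cons, Multiset.sum_cons]
    have ha : 0 < a := h a (Multiset.mem_cons_self a m)
    have hm : ∀ b ∈ m, 0 < b := fun b hb => h b (Multiset.mem_cons_of_mem hb)
    have hl : m.lcm ≠ 0 := by
      rw [Ne, Multiset.lcm_eq_zero_iff]
      intro h0
      exact (hm 0 h0).ne' rfl
    have h1 := sg_lcm_le ha.ne' hl
    have h2 := sg_le_self a
    have h3 := ih hm
    exact h1.trans (by omega)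

/-- the multiset of the prime power parts -/
def parts (N : ℕ) : Multiset ℕ := N.primeFactors.val.map fun p => p ^ N.factorization p

theorem sum_parts (N : ℕ) : (parts N).sum = sg N := rfl

theorem mem_parts {N x : ℕ} (h : x ∈ parts N) : ∃ p, p.Prime ∧ p ∣ N ∧ N.factorization p ≠ 0 ∧ x = p ^ N.factorization p := by
  unfold parts at h
  rw [Multiset.mem_map] at h
  obtain ⟨p, hp, rfl⟩ := h
  have hp' : p ∈ N.primeFactors := hp
  refine ⟨p, Nat.prime_of_mem_primeFactors hp', Nat.dvd_of_mem_primeFactors hp', ?_, rfl⟩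
  rwa [← Nat.support_factorization, Finsupp.mem_support_iff] at hp'

theorem two_le_parts {N x : ℕ} (h : x ∈ parts N) : 2 ≤ x := by
  obtain ⟨p, hp, -, h0, rfl⟩ := mem_parts h
  exact hp.two_le.trans (Nat.le_self_pow h0 p)

theorem lcm_parts {N : ℕ} (hN : N ≠ 0) : (parts N).lcm = N := by
  apply Nat.dvd_antisymm
  · rw [Multiset.lcm_dvd]
    intro x hx
    obtain ⟨p, hp, -, -, rfl⟩ := mem_parts hx
    exact Nat.ordProj_dvd N p
  · rw [← Nat.factorization_le_iff_dvd hN (by
      rw [Ne, Multiset.lcm_eq_zero_iff]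
      intro h0
      have := two_le_parts h0
      omega)]
    intro p
    by_cases hp : p ∈ N.primeFactors
    · have hpp := Nat.prime_of_mem_primeFactors hp
      have h1 : p ^ N.factorization p ∣ (parts N).lcm :=
        Multiset.dvd_lcm (Multiset.mem_map.2 ⟨p, hp, rfl⟩)
      have h2 : (parts N).lcm ≠ 0 := by
        rw [Ne, Multiset.lcm_eq_zero_iff]
        intro h0
        have := two_le_parts h0
        omega
      exact (hpp.pow_dvd_iff_le_factorization h2).1 h1
    · have : N.factorization p = 0 := by rwa [← Finsupp.notMem_support_iff, Nat.support_factorization]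
      rw [this]
      exact Nat.zero_le _

theorem sym_iff {n N : ℕ} : (∃ g : Perm (Fin n), orderOf g = N) ↔ In 0 n N := by
  constructor
  · rintro ⟨g, rfl⟩
    have h1 : sg (orderOf g) ≤ n := by
      rw [← Perm.lcm_cycleType]
      refine (sg_lcm_le_sum g.cycleType fun a ha => lt_of_lt_of_le two_pos (Perm.two_le_of_mem_cycleType ha)).trans ?_
      rw [Perm.sum_cycleType]
      exact (Finset.card_le_univ _).trans (Fintype.card_fin n).le
    exact ⟨(orderOf_pos g).ne', h1, fun _ => h1⟩
  · rintro ⟨h0, h1, -⟩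
    obtain ⟨σ, hσ⟩ := (Perm.exists_with_cycleType_iff (α := Fin n) (m := parts N)).2 ⟨by
      rw [Fintype.card_fin, sum_parts]
      exact h1, fun a ha => two_le_parts ha⟩
    refine ⟨σ, ?_⟩
    rw [← Perm.lcm_cycleType, hσ, lcm_parts h0]

/-! ### parity -/

theorem even_of_odd {m : Multiset ℕ} (h : ∀ a ∈ m, Odd a) : Even (m.sum + Multiset.card m) := by
  induction m using Multiset.induction_on with
  | empty => simp
  | cons a m ih =>
    rw [Multiset.sum_cons, Multiset.card_cons]
    have h1 := ih fun b hb => h b (Multiset.mem_cons_of_mem hb)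
    have h2 := h a (Multiset.mem_cons_self a m)
    obtain ⟨x, hx⟩ := h1
    obtain ⟨y, hy⟩ := h2
    exact ⟨x + y + 1, by omega⟩

theorem sign_eq_one_of_even {n : ℕ} {g : Perm (Fin n)} (h : Even (g.cycleType.sum + Multiset.card g.cycleType)) :
    Perm.sign g = 1 := by
  rw [Perm.sign_of_cycleType]
  exact h.neg_one_pow

theorem even_of_sign {n : ℕ} {g : Perm (Fin n)} (h : Perm.sign g = 1) :
    Even (g.cycleType.sum + Multiset.card g.cycleType) := by
  rw [Perm.sign_of_cycleType] at h
  by_contra hcon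
  rw [Nat.not_even_iff_odd] at hcon
  rw [hcon.neg_one_pow] at h
  exact absurd h (by decide)

theorem odd_parts {N x : ℕ} (hx : x ∈ parts N) (h2 : ¬ 2 ∣ x) : Odd x := by
  rw [← Nat.not_even_iff_odd, even_iff_two_dvd]
  exact h2

/-- the 2-part is the only even part -/
theorem parts_even {N : ℕ} (hN : N ≠ 0) (hev : Even N) : ∃ m : Multiset ℕ, ∃ c : ℕ, parts N = c ::ₘ m ∧ Even c ∧
    ∀ a ∈ m, Odd a := by
  have h2 : (2 : ℕ) ∈ N.primeFactors := Nat.mem_primeFactors.2 ⟨Nat.prime_two, even_iff_two_dvd.1 hev, hN⟩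
  refine ⟨(N.primeFactors.erase 2).val.map fun p => p ^ N.factorization p, 2 ^ N.factorization 2, ?_, ?_, ?_⟩
  · unfold parts
    rw [← Multiset.map_cons (fun p => p ^ N.factorization p)]
    congr 1
    rw [← Finset.insert_val_of_notMem (Finset.notMem_erase 2 _), Finset.insert_erase h2]
  · rw [← Nat.support_factorization, Finsupp.mem_support_iff] at h2
    exact (even_iff_two_dvd.2 (dvd_pow_self 2 h2))
  · intro a ha
    rw [Multiset.mem_map] at ha
    obtain ⟨p, hp, rfl⟩ := ha
    have hp' : p ∈ N.primeFactors.erase 2 := hp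
    rw [mem_erase] at hp'
    exact ((Nat.prime_of_mem_primeFactors hp'.2).odd_of_ne_two hp'.1).pow

theorem alt_aux {m : Multiset ℕ} (hpos : ∀ a ∈ m, 0 < a) (hev : Even m.lcm) (hpar : Even (m.sum + Multiset.card m)) :
    sg m.lcm + 2 ≤ m.sum := by
  classical
  have hl0 : m.lcm ≠ 0 := by
    rw [Ne, Multiset.lcm_eq_zero_iff]
    intro h0
    exact (hpos 0 h0).ne' rfl
  -- an entry divisible by the full power of 2
  obtain ⟨c, hc, hcd⟩ : ∃ c ∈ m, 2 ^ m.lcm.factorization 2 ∣ c := by
    by_contra hcon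
    push Not at hcon
    have h1 : m.lcm ∣ m.lcm / 2 := by
      rw [Multiset.lcm_dvd]
      intro a ha
      have ha0 : a ≠ 0 := (hpos a ha).ne'
      have h2 : a ∣ m.lcm := Multiset.dvd_lcm ha
      obtain ⟨k, hk⟩ := h2
      have hk2 : 2 ∣ k := by
        by_contra hk2
        apply hcon a ha
        have h3 : m.lcm.factorization 2 = a.factorization 2 := by
          rw [hk, Nat.factorization_mul ha0 (by rintro rfl; rw [mul_zero] at hk; exact hl0 hk), Finsupp.add_apply,
            Nat.factorization_eq_zero_of_not_dvd hk2, add_zero]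
        rw [h3]
        exact Nat.ordProj_dvd a 2
      obtain ⟨j, hj⟩ := hk2
      exact ⟨j, by rw [hk, hj]; rw [Nat.div_eq_of_eq_mul_left two_pos]; ring⟩
    have h2 : 0 < m.lcm / 2 := by
      obtain ⟨x, hx⟩ := hev
      omega
    have h3 := Nat.le_of_dvd h2 h1
    omega
  have hv : m.lcm.factorization 2 ≠ 0 := by
    have h2 : (2 : ℕ) ∈ m.lcm.primeFactors := Nat.mem_primeFactors.2 ⟨Nat.prime_two, even_iff_two_dvd.1 hev, hl0⟩
    rwa [← Nat.support_factorization, Finsupp.mem_support_iff] at h2
  have hceven : Even c := even_iff_two_dvd.2 ((dvd_pow_self 2 hv).trans hcd)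
  obtain ⟨m', rfl⟩ := Multiset.exists_cons_of_mem hc
  -- another even entry
  obtain ⟨d, hd, hdev⟩ : ∃ d ∈ m', Even d := by
    by_contra hcon
    push Not at hcon
    have h1 := even_of_odd (m := m') fun a ha => Nat.not_even_iff_odd.1 (hcon a ha)
    rw [Multiset.sum_cons, Multiset.card_cons] at hpar
    obtain ⟨x, hx⟩ := h1
    obtain ⟨y, hy⟩ := hpar
    obtain ⟨z, hz⟩ := hceven
    omega
  obtain ⟨m'', rfl⟩ := Multiset.exists_cons_of_mem hd
  have hd0 : d ≠ 0 := (hpos d (Multiset.mem_cons_of_mem (Multiset.mem_cons_self d m''))).ne'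
  -- write d = 2 ^ w * u
  set w := d.factorization 2 with hw
  set u := d / 2 ^ w with hu
  have hduw : 2 ^ w * u = d := Nat.ordProj_mul_ordCompl_eq_self d 2
  have hw0 : w ≠ 0 := by
    have h2 : (2 : ℕ) ∈ d.primeFactors := Nat.mem_primeFactors.2 ⟨Nat.prime_two, even_iff_two_dvd.1 hdev, hd0⟩
    rwa [← Nat.support_factorization, Finsupp.mem_support_iff] at h2
  have hu0 : u ≠ 0 := by
    rintro h
    rw [h, mul_zero] at hduw
    exact hd0 hduw.symm
  set L := (c ::ₘ m'').lcm with hL
  have hL0 : L ≠ 0 := by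
    rw [hL, Ne, Multiset.lcm_eq_zero_iff]
    intro h0
    rcases Multiset.mem_cons.1 h0 with h0 | h0
    · exact (hpos c (Multiset.mem_cons_self _ _)).ne h0
    · exact (hpos 0 (Multiset.mem_cons_of_mem (Multiset.mem_cons_of_mem h0))).ne' rfl
  have hsw : (c ::ₘ d ::ₘ m'') = d ::ₘ c ::ₘ m'' := Multiset.cons_swap c d m''
  have hle : (c ::ₘ d ::ₘ m'').lcm ∣ Nat.lcm u L := by
    rw [hsw, Multiset.lcm_cons]
    apply Nat.lcm_dvd
    · rw [← hduw]
      apply Nat.Coprime.mul_dvd_of_dvd_of_dvd
      · exact Nat.Coprime.pow_left _ (Nat.coprime_ordCompl Nat.prime_two hd0)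
      · have h1 : 2 ^ w ∣ 2 ^ (c ::ₘ d ::ₘ m'').lcm.factorization 2 := by
          apply pow_dvd_pow
          exact (Nat.factorization_le_iff_dvd hd0 hl0).2
            (Multiset.dvd_lcm (Multiset.mem_cons_of_mem (Multiset.mem_cons_self d m''))) 2
        exact ((h1.trans hcd).trans (Multiset.dvd_lcm (Multiset.mem_cons_self c m''))).trans (Nat.dvd_lcm_right u L)
      · exact Nat.dvd_lcm_left u L
    · exact Nat.dvd_lcm_right u L
  have h1 : sg (c ::ₘ d ::ₘ m'').lcm ≤ sg u + sg L :=
    (sg_le_of_dvd (Nat.lcm_ne_zero hu0 hL0) hle).trans (sg_lcm_le hu0 hL0)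
  have h2 : sg L ≤ (c ::ₘ m'').sum := sg_lcm_le_sum _ fun a ha => hpos a (by
    rcases Multiset.mem_cons.1 ha with h | h
    · rw [h]; exact Multiset.mem_cons_self _ _
    · exact Multiset.mem_cons_of_mem (Multiset.mem_cons_of_mem h))
  have h3 : sg u + 2 ≤ d := by
    have h4 := sg_le_self u
    have h5 : 2 ≤ 2 ^ w := Nat.le_self_pow hw0 2
    rcases Nat.lt_or_ge u 2 with h6 | h6
    · have h7 : u = 1 := by omega
      rw [h7, sg_one]
      rw [h7, mul_one] at hduw
      omega
    · have : 2 * u ≤ d := by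
        rw [← hduw]
        exact Nat.mul_le_mul_right u h5
      omega
  rw [hsw, Multiset.sum_cons]
  rw [hsw] at h1
  omega

theorem alt_iff {n N : ℕ} : (∃ g : alternatingGroup (Fin n), orderOf g = N) ↔ In 2 n N := by
  constructor
  · rintro ⟨⟨g, hg⟩, rfl⟩
    rw [Perm.mem_alternatingGroup] at hg
    rw [Subgroup.orderOf_mk]
    have h1 := (sym_iff (n := n) (N := orderOf g)).1 ⟨g, rfl⟩
    refine ⟨h1.1, h1.2.1, fun hev => ?_⟩
    rw [← Perm.lcm_cycleType] at hev ⊢
    refine (alt_aux (fun a ha => lt_of_lt_of_le two_pos (Perm.two_le_of_mem_cycleType ha)) hev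
      (even_of_sign hg)).trans ?_
    rw [Perm.sum_cycleType]
    exact (Finset.card_le_univ _).trans (Fintype.card_fin n).le
  · rintro ⟨h0, h1, h2⟩
    by_cases hev : Even N
    · obtain ⟨m, c, hm, hc, hodd⟩ := parts_even h0 hev
      obtain ⟨σ, hσ⟩ := (Perm.exists_with_cycleType_iff (α := Fin n) (m := 2 ::ₘ parts N)).2 ⟨by
        rw [Fintype.card_fin, Multiset.sum_cons, sum_parts]
        have := h2 hev
        omega, fun a ha => by
        rcases Multiset.mem_cons.1 ha with h | h
        · omega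
        · exact two_le_parts h⟩
      have hs : Perm.sign σ = 1 := by
        apply sign_eq_one_of_even
        rw [hσ, hm, Multiset.sum_cons, Multiset.sum_cons, Multiset.card_cons, Multiset.card_cons]
        obtain ⟨x, hx⟩ := even_of_odd hodd
        obtain ⟨y, hy⟩ := hc
        exact ⟨x + y + 2, by omega⟩
      refine ⟨⟨σ, Perm.mem_alternatingGroup.2 hs⟩, ?_⟩
      rw [Subgroup.orderOf_mk, ← Perm.lcm_cycleType, hσ, Multiset.lcm_cons, lcm_parts h0]
      exact Nat.lcm_eq_right (even_iff_two_dvd.1 hev)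
    · obtain ⟨σ, hσ⟩ := (Perm.exists_with_cycleType_iff (α := Fin n) (m := parts N)).2 ⟨by
        rw [Fintype.card_fin, sum_parts]
        exact h1, fun a ha => two_le_parts ha⟩
      have hs : Perm.sign σ = 1 := by
        apply sign_eq_one_of_even
        rw [hσ]
        apply even_of_odd
        intro a ha
        obtain ⟨p, hp, hpN, -, rfl⟩ := mem_parts ha
        have hp2 : p ≠ 2 := by
          rintro rfl
          exact hev (even_iff_two_dvd.2 hpN)
        exact (hp.odd_of_ne_two hp2).pow
      refine ⟨⟨σ, Perm.mem_alternatingGroup.2 hs⟩, ?_⟩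
      rw [Subgroup.orderOf_mk, ← Perm.lcm_cycleType, hσ, lcm_parts h0]

end Cfsg.Agent.H367.Rec
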